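import Groth.Agent.GerbeNeutral.Glue
import Groth.Agent.FibBasics.Band
import Groth.Prelude.Def_StGerb2

/-!
Functors between gerbes with a neutralisation.
-/

set_option autoImplicit false
set_option backward.isDefEq.respectTransparency false
set_option backward.isDefEq.respectTransparency.types false

universe v₃ u₃ v₂ u₂ v u

open CategoryTheory CategoryTheory.Functor CategoryTheory.Limits Groth.Agent.FibBasics

namespace Groth.Agent.GerbeNeutral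

variable {C : Type u} [Category.{v} C] {J : GrothendieckTopology C}
  {𝒳 : BasedCategory.{v₂, u₂} C} {𝒴 : BasedCategory.{v₃, u₃} C}

theorem isPrestack_of_isStack' (h : Stk.IsStack J 𝒳) : Stk.IsPrestack J 𝒳 :=
  ⟨h.1, fun _ R hR => ⟨(h.2 R hR).full, (h.2 R hR).faithful⟩⟩

/-- A vertical endomorphism as an automorphism over the identity. -/
theorem exists_autO (hp : FibCat.IsFibGrpd 𝒳.p) {x : 𝒳.obj} (u : x ⟶ x)
    (hu : 𝒳.p.IsHomLift (𝟙 (𝒳.p.obj x)) u) : ∃ α : Gerb.AutO x, α.hom.1 = u := by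
  haveI := isGroupoid_fiber 𝒳.p hp (𝒳.p.obj x)
  let u' : Gerb.fib x ⟶ Gerb.fib x := ⟨u, hu⟩
  haveI : IsIso u' := IsGroupoid.all_isIso u'
  exact ⟨asIso u', rfl⟩

/-- Functors over the base preserve lifts. -/
theorem map_lift (φ : 𝒳 ⥤ᵇ 𝒴) {R S : C} (f : R ⟶ S) {a b : 𝒳.obj} {m : a ⟶ b} (h : 𝒳.p.IsHomLift f m) :
    𝒴.p.IsHomLift f (φ.map m) :=
  (BasedFunctor.isHomLift_iff φ f m).2 h

/-- Locally every object maps to a given object over the terminal object. -/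
theorem exists_cover (hG : Gerb.IsGerbe J 𝒳) (x : 𝒳.obj) (ht : IsTerminal (𝒳.p.obj x)) {U : C} (y : 𝒳.p.Fiber U) :
    ∃ R ∈ J U, ∀ {V : C} (f : V ⟶ U), R f → ∀ (a : 𝒳.obj) (m : a ⟶ y.1), 𝒳.p.IsHomLift f m → Nonempty (a ⟶ x) := by
  obtain ⟨xU, cx, hcx⟩ := hG.1.1.exists_lift (ht.from U)
  obtain ⟨R, hR, h⟩ := exists_locIso hG.2.2 y ⟨xU, @IsHomLift.domain_eq _ _ _ _ 𝒳.p _ _ _ _ (ht.from U) cx hcx⟩
  refine ⟨R, hR, fun {V} f hf a m hm => ?_⟩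
  obtain ⟨x₀, φ₀, ψ₀, h₁, h₂⟩ := h f hf
  obtain ⟨u, -, -⟩ := fib_factor_id hG.1.1 f φ₀ h₁ m hm
  exact ⟨u ≫ ψ₀ ≫ cx⟩

section Endo

variable (φ : 𝒳 ⥤ᵇ 𝒳) (x : 𝒳.obj) (g : φ.obj x ⟶ x)

/-- `u` is the canonical vertical morphism `y ⟶ φ y` along `c : y ⟶ x`. -/
def IsCan {y : 𝒳.obj} (c : y ⟶ x) (u : y ⟶ φ.obj y) : Prop :=
  𝒳.p.IsHomLift (𝟙 (𝒳.p.obj y)) u ∧ u ≫ φ.map c ≫ g = c

variable {φ x g}

theorem lift_can (hg : 𝒳.p.IsHomLift (𝟙 (𝒳.p.obj x)) g) {y : 𝒳.obj} (c : y ⟶ x) :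
    𝒳.p.IsHomLift (𝒳.p.map c) (φ.map c ≫ g) :=
  lift_comp_vert _ (map_lift φ _ (IsHomLift.map 𝒳.p c)) hg

theorem exists_can (hp : FibCat.IsFibGrpd 𝒳.p) (hg : 𝒳.p.IsHomLift (𝟙 (𝒳.p.obj x)) g) {y : 𝒳.obj} (c : y ⟶ x) :
    ∃ u, IsCan φ x g c u := by
  obtain ⟨u, hu, huc⟩ := fib_factor_id hp (𝒳.p.map c) (φ.map c ≫ g) (lift_can hg c) c (IsHomLift.map 𝒳.p c)
  exact ⟨u, hu, huc⟩

/-- The conjugation hypothesis. -/
def ConjHyp (φ : 𝒳 ⥤ᵇ 𝒳) (x : 𝒳.obj) (g : φ.obj x ⟶ x) : Prop :=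
  ∀ (x' : 𝒳.obj) (c : x' ⟶ x) (g' : φ.obj x' ⟶ x'), 𝒳.p.IsHomLift (𝟙 (𝒳.p.obj x')) g' →
    φ.map c ≫ g = g' ≫ c → ∀ α : Gerb.AutO x', φ.map α.hom.1 ≫ g' = g' ≫ α.hom.1

variable (hp : FibCat.IsFibGrpd 𝒳.p) (ht : IsTerminal (𝒳.p.obj x))
  (hg : 𝒳.p.IsHomLift (𝟙 (𝒳.p.obj x)) g) (hconj : ConjHyp φ x g)

include hp ht hg hconj in
/-- The canonical morphism does not depend on the chart. -/
theorem can_indep {y : 𝒳.obj} {c c' : y ⟶ x} {u : y ⟶ φ.obj y} (h : IsCan φ x g c u) : IsCan φ x g c' u := by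
  refine ⟨h.1, ?_⟩
  have hb : 𝒳.p.map c = 𝒳.p.map c' := ht.hom_ext _ _
  obtain ⟨a, ha, hac⟩ := fib_factor_id hp (𝒳.p.map c) c (IsHomLift.map 𝒳.p c) c'
    (hb ▸ IsHomLift.map 𝒳.p c')
  obtain ⟨α, hα⟩ := exists_autO hp a ha
  subst hα
  haveI := h.1
  haveI : IsIso u := isIso_of_isFibGrpd 𝒳.p hp (𝟙 (𝒳.p.obj y)) u
  have hg' : φ.map c ≫ g = inv u ≫ c := by rw [IsIso.eq_inv_comp]; exact h.2
  have hk := hconj y c (inv u) inferInstance hg' α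
  have hk' : u ≫ φ.map α.hom.1 = α.hom.1 ≫ u := by
    rw [IsIso.eq_inv_comp, ← Category.assoc, IsIso.comp_inv_eq] at hk
    exact hk
  rw [← hac, φ.toFunctor.map_comp, Category.assoc, reassoc_of% hk', h.2]

include hp ht hg hconj in
/-- Canonical morphisms are natural. -/
theorem can_natural {y y' : 𝒳.obj} (n : y ⟶ y') {c : y ⟶ x} {c' : y' ⟶ x} {u : y ⟶ φ.obj y} {u' : y' ⟶ φ.obj y'}
    (h : IsCan φ x g c u) (h' : IsCan φ x g c' u') : u ≫ φ.map n = n ≫ u' := by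
  have hn := IsHomLift.map 𝒳.p n
  refine fib_ext hp (𝒳.p.map n) (𝒳.p.map c') (φ.map c' ≫ g) (lift_can hg c') _ _
    (lift_vert_comp _ h.1 (map_lift φ _ hn)) (lift_comp_vert _ hn h'.1) ?_
  rw [Category.assoc, Category.assoc, ← Category.assoc (φ.map n), ← φ.toFunctor.map_comp, h'.2]
  exact (can_indep hp ht hg hconj h).2

end Endo

/-- An endofunctor conjugate to the identity at a neutralisation is isomorphic to the identity. -/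
theorem exists_iso_id (hG : Gerb.IsGerbe J 𝒳) (φ : 𝒳 ⥤ᵇ 𝒳) (x : 𝒳.obj) (ht : IsTerminal (𝒳.p.obj x))
    (g : φ.obj x ⟶ x) (hg : 𝒳.p.IsHomLift (𝟙 (𝒳.p.obj x)) g) (hconj : ConjHyp φ x g) :
    ∃ ρ : ∀ y : 𝒳.obj, φ.obj y ⟶ y,
      (∀ y, IsIso (ρ y) ∧ 𝒳.p.IsHomLift (𝟙 (𝒳.p.obj y)) (ρ y)) ∧
      (∀ (y y' : 𝒳.obj) (f : y ⟶ y'), φ.map f ≫ ρ y' = ρ y ≫ f) := by
  classical
  have hp := hG.1.1
  have hP := isPrestack_of_isStack' hG.1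
  have key : ∀ y : 𝒳.obj, ∃ σ : y ⟶ φ.obj y, 𝒳.p.IsHomLift (𝟙 (𝒳.p.obj y)) σ ∧
      ∀ (a : 𝒳.obj) (m : a ⟶ y) (c : a ⟶ x) (u : a ⟶ φ.obj a), IsCan φ x g c u → m ≫ σ = u ≫ φ.map m := by
    intro y
    obtain ⟨R, hR, hX⟩ := exists_cover hG x ht (⟨y, rfl⟩ : 𝒳.p.Fiber (𝒳.p.obj y))
    have hex : ∀ {V : C} (f : V ⟶ 𝒳.p.obj y), R f → ∀ (a : 𝒳.obj) (m : a ⟶ y), 𝒳.p.IsHomLift f m →
        ∃ (c : a ⟶ x) (u : a ⟶ φ.obj a), IsCan φ x g c u := fun f hf a m hm =>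
      let ⟨c⟩ := hX f hf a m hm
      ⟨c, exists_can hp hg c⟩
    choose c u hcu using @hex
    obtain ⟨σ, hσ⟩ := exists_glue hP R hR ⟨y, rfl⟩ ⟨φ.obj y, φ.w_obj y⟩
      (fun {V} f hf a m hm => u f hf a m hm ≫ φ.map m)
      (fun {V} f hf a m hm => by
        obtain rfl := @IsHomLift.domain_eq _ _ _ _ 𝒳.p _ _ _ _ f m hm
        exact lift_vert_comp f (hcu f hf a m hm).1 (map_lift φ f hm))
      (fun {V V'} k f f' hf hf' a a' n hn m hm hm' => by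
        show _ ≫ φ.map (n ≫ m) = _
        rw [φ.toFunctor.map_comp, ← Category.assoc,
          can_natural hp ht hg hconj n (hcu f' hf' a' (n ≫ m) hm') (hcu f hf a m hm), Category.assoc])
    refine ⟨σ.1, σ.2, fun a m c' u' h' => ?_⟩
    have hm := IsHomLift.map 𝒳.p m
    refine hom_ext_loc hP (R.pullback (𝒳.p.map m)) (J.pullback_stable _ hR) rfl (𝒳.p.map m) _ _
      (lift_comp_vert _ hm σ.2) (lift_vert_comp _ h'.1 (map_lift φ _ hm)) fun {V} f hf b n hn => ?_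
    have hnm : 𝒳.p.IsHomLift (f ≫ 𝒳.p.map m) (n ≫ m) :=
      @IsHomLift.comp _ _ _ _ 𝒳.p _ _ _ _ _ _ f (𝒳.p.map m) n m hn hm
    rw [← Category.assoc, hσ (f ≫ 𝒳.p.map m) hf b (n ≫ m) hnm, φ.toFunctor.map_comp, ← Category.assoc,
      can_natural hp ht hg hconj n (hcu _ hf b (n ≫ m) hnm) h', Category.assoc]
  choose σ hσl hσ using key
  have hi : ∀ y, IsIso (σ y) := fun y => haveI := hσl y; isIso_of_isFibGrpd 𝒳.p hp (𝟙 (𝒳.p.obj y)) (σ y)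
  have nat : ∀ (y y' : 𝒳.obj) (f : y ⟶ y'), σ y ≫ φ.map f = f ≫ σ y' := by
    intro y y' f
    obtain ⟨R, hR, hX⟩ := exists_cover hG x ht (⟨y, rfl⟩ : 𝒳.p.Fiber (𝒳.p.obj y))
    have hf' := IsHomLift.map 𝒳.p f
    refine hom_ext_loc hP R hR rfl (𝒳.p.map f) _ _ (lift_vert_comp _ (hσl y) (map_lift φ _ hf'))
      (lift_comp_vert _ hf' (hσl y')) fun {V} f₀ hf₀ a m hm => ?_
    obtain ⟨c⟩ := hX f₀ hf₀ a m hm
    obtain ⟨u, hu⟩ := exists_can hp hg c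
    rw [← Category.assoc, hσ y a m c u hu, ← Category.assoc m f, hσ y' a (m ≫ f) c u hu, φ.toFunctor.map_comp,
      Category.assoc]
  refine ⟨fun y => haveI := hi y; inv (σ y), fun y => ?_, fun y y' f => ?_⟩
  · haveI := hi y
    haveI := hσl y
    exact ⟨inferInstance, inferInstance⟩
  · haveI := hi y
    haveI := hi y'
    rw [IsIso.comp_inv_eq, Category.assoc, IsIso.eq_inv_comp]
    exact nat y y' f

/-- A composite conjugate to the identity at a neutralisation transfers along a functor surjective on automorphisms. -/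
theorem conjHyp_transfer (hp : FibCat.IsFibGrpd 𝒳.p) (hp' : FibCat.IsFibGrpd 𝒴.p) (φ : 𝒳 ⥤ᵇ 𝒴) (ψ : 𝒴 ⥤ᵇ 𝒳)
    (x : 𝒳.obj) (hφ : ∀ (x' : 𝒳.obj) (_ : x' ⟶ x), Function.Surjective (Gerb.autMap φ x'))
    (g : ψ.obj (φ.obj x) ⟶ x) (hg : 𝒳.p.IsHomLift (𝟙 (𝒳.p.obj x)) g)
    (hconj : ConjHyp (BasedFunctor.comp φ ψ) x g) : ConjHyp (BasedFunctor.comp ψ φ) (φ.obj x) (φ.map g) := by
  intro y c g' hg' heq α
  obtain ⟨x', d, hd⟩ := hp.exists_lift (eqToHom rfl ≫ 𝒴.p.map c ≫ eqToHom (φ.w_obj x))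
  have hd' := map_lift φ _ hd
  have hc : 𝒴.p.IsHomLift (eqToHom rfl ≫ 𝒴.p.map c ≫ eqToHom (φ.w_obj x)) c :=
    IsHomLift.of_fac _ _ _ rfl (φ.w_obj x) rfl
  obtain ⟨u, hu, huc⟩ := fib_factor_id hp' _ (φ.map d) hd' c hc
  haveI := hu
  haveI : IsIso u := isIso_of_isFibGrpd 𝒴.p hp' (𝟙 (𝒴.p.obj y)) u
  have hx' : 𝒳.p.obj x' = 𝒴.p.obj y := @IsHomLift.domain_eq _ _ _ _ 𝒳.p _ _ _ _ _ d hd
  obtain ⟨w, hw, hwd⟩ := fib_factor_id hp _ d hd (ψ.map (φ.map d) ≫ g)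
    (lift_comp_vert _ (map_lift ψ _ hd') hg)
  have hw' : 𝒳.p.IsHomLift (𝟙 (𝒳.p.obj x')) w := hx'.symm ▸ hw
  have e1 : g' ≫ u = φ.map (ψ.map u) ≫ φ.map w := by
    refine fib_ext hp' (𝟙 _) _ (φ.map d) hd' _ _ (lift_comp_vert _ hg' hu)
      (lift_comp_vert _ (map_lift φ _ (map_lift ψ _ hu)) (map_lift φ _ hw)) ?_
    show (g' ≫ u) ≫ φ.map d = (φ.map (ψ.map u) ≫ φ.map w) ≫ φ.map d
    rw [Category.assoc, huc, Category.assoc, ← φ.toFunctor.map_comp, hwd]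
    refine heq.symm.trans ?_
    show φ.map (ψ.map c) ≫ φ.map g = φ.map (ψ.map u) ≫ φ.map (ψ.map (φ.map d) ≫ g)
    rw [← huc, ψ.toFunctor.map_comp, φ.toFunctor.map_comp, φ.toFunctor.map_comp, Category.assoc]
  haveI := α.hom.2
  have hβ : 𝒴.p.IsHomLift (𝟙 (𝒴.p.obj (φ.obj x'))) (inv u ≫ α.hom.1 ≫ u) := by
    rw [show 𝒴.p.obj (φ.obj x') = 𝒴.p.obj y from (φ.w_obj x').trans hx']
    exact lift_vert_comp _ inferInstance (lift_vert_comp _ α.hom.2 hu)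
  obtain ⟨β, hβe⟩ := exists_autO hp' _ hβ
  obtain ⟨γ, hγ⟩ := hφ x' d β
  have hγ' : φ.map γ.hom.1 = inv u ≫ α.hom.1 ≫ u :=
    (congrArg (fun t : Gerb.AutO (φ.obj x') => t.hom.1) hγ).trans hβe
  have hk : ψ.map (φ.map γ.hom.1) ≫ w = w ≫ γ.hom.1 := hconj x' d w hw' hwd.symm γ
  show φ.map (ψ.map α.hom.1) ≫ g' = g' ≫ α.hom.1
  have hα : α.hom.1 = u ≫ φ.map γ.hom.1 ≫ inv u := by simp [hγ']
  have hg'e : g' = φ.map (ψ.map u) ≫ φ.map w ≫ inv u := by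
    rw [← Category.assoc, ← e1]; simp
  have hinv : φ.map (ψ.map (inv u)) ≫ φ.map (ψ.map u) = 𝟙 _ := by
    rw [← φ.toFunctor.map_comp, ← ψ.toFunctor.map_comp, IsIso.inv_hom_id, ψ.toFunctor.map_id, φ.toFunctor.map_id]
  rw [hα, hg'e]
  simp only [ψ.toFunctor.map_comp, φ.toFunctor.map_comp, Category.assoc, reassoc_of% hinv, IsIso.inv_hom_id_assoc]
  rw [← φ.toFunctor.map_comp_assoc (ψ.map (φ.map γ.hom.1)) w, hk, φ.toFunctor.map_comp, Category.assoc]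

end Groth.Agent.GerbeNeutral
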