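import Groth.Agent.GerbeNeutral.Basic

/-!
Functors between gerbes bijective on the automorphisms of a neutralisation are equivalences.
-/

set_option autoImplicit false
set_option backward.isDefEq.respectTransparency false
set_option backward.isDefEq.respectTransparency.types false

universe v₃ u₃ v₂ u₂ v u

open CategoryTheory CategoryTheory.Functor CategoryTheory.Limits Groth.Agent.FibBasics

namespace Groth.Agent.GerbeNeutral

variable {C : Type u} [Category.{v} C] {J : GrothendieckTopology C}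
  {𝒳 : BasedCategory.{v₂, u₂} C} {𝒴 : BasedCategory.{v₃, u₃} C}
  (h𝒳 : Gerb.IsGerbe J 𝒳) (h𝒴 : Gerb.IsGerbe J 𝒴) (φ : 𝒳 ⥤ᵇ 𝒴) (s : 𝒳.obj) (ht : IsTerminal (𝒳.p.obj s))

include h𝒳 h𝒴 ht in
/-- Injectivity on automorphisms at a neutralisation gives faithfulness. -/
theorem faithful_of_injective (hφ : ∀ (x : 𝒳.obj) (_ : x ⟶ s), Function.Injective (Gerb.autMap φ x)) :
    φ.toFunctor.Faithful := by
  have hp := h𝒳.1.1
  haveI := isFibered_of_isFibGrpd _ hp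
  refine faithful_of_fiber φ (cart_of_isFibGrpd φ h𝒴.1.1) fun U => ⟨fun {a b} α β e => ?_⟩
  obtain ⟨R, hR, hX⟩ := exists_cover h𝒳 s ht a
  refine fiber_hom_ext_loc (isPrestack_of_isStack' h𝒳.1) R hR α β fun {V} f hf a' m hm => ?_
  obtain rfl := @IsHomLift.domain_eq _ _ _ _ 𝒳.p _ _ _ _ f m hm
  obtain ⟨c⟩ := hX f hf a' m hm
  obtain ⟨w, hw, hwd⟩ := fib_factor_id hp f (m ≫ α.1) (lift_comp_vert f hm α.2) (m ≫ β.1) (lift_comp_vert f hm β.2)
  obtain ⟨γ, hγ⟩ := exists_autO hp w hw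
  have he : φ.map α.1 = φ.map β.1 := congrArg Subtype.val e
  have h1 : φ.map w = 𝟙 _ := by
    refine fib_ext h𝒴.1.1 (𝟙 (𝒳.p.obj a')) f (φ.map (m ≫ α.1)) (map_lift φ f (lift_comp_vert f hm α.2)) _ _
      (map_lift φ _ hw) (IsHomLift.id (φ.w_obj a')) ?_
    rw [Category.id_comp, ← φ.toFunctor.map_comp, hwd, φ.toFunctor.map_comp, φ.toFunctor.map_comp, he]
  have h2 : γ = 1 := hφ a' c (by
    rw [map_one]
    refine autO_ext ?_
    show φ.map γ.hom.1 = _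
    rw [hγ, h1]
    rfl)
  rw [← hwd, ← hγ, h2]
  exact (Category.id_comp _).symm

include h𝒳 h𝒴 ht in
/-- Surjectivity on automorphisms at a neutralisation gives fullness. -/
theorem full_of_bijective (hφ : ∀ (x : 𝒳.obj) (_ : x ⟶ s), Function.Bijective (Gerb.autMap φ x)) :
    φ.toFunctor.Full := by
  have hp := h𝒳.1.1
  have hp' := h𝒴.1.1
  haveI := isFibered_of_isFibGrpd _ hp
  haveI := faithful_of_injective h𝒳 h𝒴 φ s ht fun x c => (hφ x c).1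
  refine full_of_fiber φ (cart_of_isFibGrpd φ hp') fun U => ⟨fun {a b} t => ?_⟩
  obtain ⟨R₁, hR₁, hX⟩ := exists_cover h𝒳 s ht a
  obtain ⟨R₂, hR₂, hI⟩ := exists_locIso h𝒳.2.2 a b
  let tv : φ.obj a.1 ⟶ φ.obj b.1 := t.1
  have htv : 𝒴.p.IsHomLift (𝟙 U) tv := t.2
  have hex : ∀ {V : C} (f : V ⟶ U), (R₁ ⊓ R₂) f → ∀ (a' : 𝒳.obj) (m : a' ⟶ a.1), 𝒳.p.IsHomLift f m →
      ∃ n : a' ⟶ b.1, 𝒳.p.IsHomLift f n ∧ φ.map n = φ.map m ≫ tv := by
    intro V f hf a' m hm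
    obtain rfl := @IsHomLift.domain_eq _ _ _ _ 𝒳.p _ _ _ _ f m hm
    obtain ⟨c⟩ := hX f hf.1 a' m hm
    obtain ⟨x₀, φ₀, ψ₀, h₁, h₂⟩ := hI f hf.2
    obtain ⟨u, hu, -⟩ := fib_factor_id hp f φ₀ h₁ m hm
    have hn : 𝒳.p.IsHomLift f (u ≫ ψ₀) := lift_vert_comp f hu h₂
    obtain ⟨δ, hδ, hδe⟩ := fib_factor_id hp' f (φ.map (u ≫ ψ₀)) (map_lift φ f hn) (φ.map m ≫ tv)
      (lift_comp_vert f (map_lift φ f hm) htv)
    have hδ' : 𝒴.p.IsHomLift (𝟙 (𝒴.p.obj (φ.obj a'))) δ := by rw [φ.w_obj a']; exact hδ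
    obtain ⟨β, hβ⟩ := exists_autO hp' δ hδ'
    obtain ⟨γ, hγ⟩ := (hφ a' c).2 β
    have hγ' : φ.map γ.hom.1 = δ := (congrArg (fun t : Gerb.AutO (φ.obj a') => t.hom.1) hγ).trans hβ
    refine ⟨γ.hom.1 ≫ u ≫ ψ₀, lift_vert_comp f γ.hom.2 hn, ?_⟩
    rw [φ.toFunctor.map_comp, hγ', hδe]
  choose n hnl hne using @hex
  obtain ⟨α, hα⟩ := exists_glue (isPrestack_of_isStack' h𝒳.1) (R₁ ⊓ R₂) (J.intersection_covering hR₁ hR₂) a b
    n hnl (fun {V V'} k f f' hf hf' a' a'' e he m hm hm' => φ.toFunctor.map_injective (by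
      show φ.map (n f' hf' a'' (e ≫ m) hm') = φ.map (e ≫ n f hf a' m hm)
      rw [hne, φ.toFunctor.map_comp, φ.toFunctor.map_comp, hne, Category.assoc]))
  refine ⟨α, fiber_hom_ext_loc (isPrestack_of_isStack' h𝒴.1) (R₁ ⊓ R₂) (J.intersection_covering hR₁ hR₂) _ _
    fun {V} f hf y m hm => ?_⟩
  obtain ⟨a', d, hd⟩ := exists_stronglyCartesian 𝒳.p a.2 f
  obtain ⟨w, hw, hwd⟩ := fib_factor_id hp' f (φ.map d) (map_lift φ f hd.toIsHomLift) m hm
  show m ≫ φ.map α.1 = m ≫ tv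
  rw [← hwd, Category.assoc, Category.assoc, ← φ.toFunctor.map_comp, hα f hf a' d hd.toIsHomLift, hne]

include h𝒳 h𝒴 ht in
/-- A fully faithful functor between gerbes with a neutral source is essentially surjective over the base. -/
theorem essSurjOver [φ.toFunctor.Full] [φ.toFunctor.Faithful] : EssSurjOver φ := by
  intro y
  have hp := h𝒳.1.1
  have hp' := h𝒴.1.1
  haveI := isFibered_of_isFibGrpd _ hp'
  obtain ⟨xU, cxU, hcxU⟩ := hp.exists_lift (ht.from (𝒴.p.obj y))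
  have hxU : 𝒳.p.obj xU = 𝒴.p.obj y := @IsHomLift.domain_eq _ _ _ _ 𝒳.p _ _ _ _ _ cxU hcxU
  let yF : 𝒴.p.Fiber (𝒴.p.obj y) := ⟨y, rfl⟩
  obtain ⟨R, hR, hI⟩ := exists_locIso h𝒴.2.2 yF ⟨φ.obj xU, (φ.w_obj xU).trans hxU⟩
  obtain ⟨Y, -, ⟨εY⟩⟩ := exists_evalAtId_iso yF
  have hex : ∀ g : (Stk.sieveCat R).obj, ∃ (ξ : 𝒳.obj) (e : φ.obj ξ ⟶ Y.obj g.obj),
      𝒳.p.obj ξ = (Stk.sieveCat R).p.obj g ∧ 𝒴.p.IsHomLift (𝟙 ((Stk.sieveCat R).p.obj g)) e := by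
    intro g
    haveI := isFibered_of_isFibGrpd _ hp
    obtain ⟨ξ, d, hd⟩ := exists_stronglyCartesian 𝒳.p hxU (hm g.obj)
    obtain ⟨x₀, φ₀, ψ₀, h₁, h₂⟩ := hI (hm g.obj) g.property
    obtain ⟨w, hw, -⟩ := fib_factor_id hp' _ ψ₀ h₂ (φ.map d) (map_lift φ _ hd.toIsHomLift)
    obtain ⟨e, he, -⟩ := fib_factor_id hp' _ (Y.map (toOne g.obj) ≫ εY.hom.1)
      (lift_comp_vert _ (based_lift_one Y g.obj) εY.hom.2) (w ≫ φ₀) (lift_vert_comp _ hw h₁)
    exact ⟨ξ, e, @IsHomLift.domain_eq _ _ _ _ 𝒳.p _ _ _ _ _ d hd.toIsHomLift, he⟩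
  choose ξ e hξ he using hex
  have hei : ∀ g, IsIso (e g) := fun g =>
    haveI := he g; isIso_of_isFibGrpd 𝒴.p hp' (𝟙 ((Stk.sieveCat R).p.obj g)) (e g)
  let E : ∀ g, φ.obj (ξ g) ≅ Y.obj g.obj := fun g => haveI := hei g; asIso (e g)
  let G₀ : (Stk.sieveCat R).obj ⥤ 𝒳.obj :=
    { obj := ξ
      map := fun {g g'} k => φ.toFunctor.preimage ((E g).hom ≫ Y.map k.hom ≫ (E g').inv)
      map_id := fun g => φ.toFunctor.map_injective (by
        simp only [Functor.map_preimage, φ.toFunctor.map_id]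
        show (E g).hom ≫ Y.map (𝟙 _) ≫ (E g).inv = _
        rw [Y.toFunctor.map_id, Category.id_comp, Iso.hom_inv_id])
      map_comp := fun {g g' g''} k k' => φ.toFunctor.map_injective (by
        simp only [Functor.map_preimage, φ.toFunctor.map_comp]
        show (E g).hom ≫ Y.map (k.hom ≫ k'.hom) ≫ (E g'').inv = _
        rw [Y.toFunctor.map_comp]
        simp [Category.assoc]) }
  have hlift : ∀ {g g'} (k : g ⟶ g'), 𝒳.p.IsHomLift ((Stk.sieveCat R).p.map k) (G₀.map k) := by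
    intro g g' k
    rw [← BasedFunctor.isHomLift_iff φ]
    show 𝒴.p.IsHomLift _ (φ.map (φ.toFunctor.preimage _))
    rw [Functor.map_preimage]
    haveI := he g'
    haveI : 𝒴.p.IsHomLift (𝟙 ((Stk.sieveCat R).p.obj g')) (E g').hom := he g'
    exact lift_vert_comp _ (he g) (lift_comp_vert _ (based_lift Y k.hom) (IsHomLift.lift_id_inv 𝒴.p _ (E g')))
  let G : Stk.sieveCat R ⥤ᵇ 𝒳 :=
    { toFunctor := G₀
      w := CategoryTheory.Functor.ext hξ fun g g' k => @IsHomLift.fac' _ _ _ _ 𝒳.p _ _ _ _ _ (G₀.map k) (hlift k) }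
  haveI := (h𝒳.1.2 R hR).essSurj
  let G' := (Stk.resSieve R 𝒳).objPreimage G
  let ι := (Stk.resSieve R 𝒳).objObjPreimageIso G
  have hnat : ∀ {g g' : (Stk.sieveCat R).obj} (k : g ⟶ g'),
      φ.map (G₀.map k) ≫ (E g').hom = (E g).hom ≫ Y.map k.hom := fun {g g'} k => by
    show φ.map (φ.toFunctor.preimage _) ≫ _ = _
    rw [Functor.map_preimage]
    simp
  let ι' : (Stk.resSieve R 𝒴).obj (BasedFunctor.comp G' φ) ≅ (Stk.resSieve R 𝒴).obj Y :=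
    BasedNatIso.mkNatIso
      (Functor.isoWhiskerRight ((BasedNatTrans.forgetful _ _).mapIso ι) φ.toFunctor ≪≫
        NatIso.ofComponents E (fun {g g'} k => hnat k))
      (fun g => lift_vert_comp _ (map_lift φ _ (ι.hom.isHomLift' g)) (he g))
  haveI := (h𝒴.1.2 R hR).full
  haveI := (h𝒴.1.2 R hR).faithful
  let η := (Stk.resSieve R 𝒴).preimageIso ι'
  let η₁ := (FibCat.evalAtId 𝒴 (𝒴.p.obj y)).mapIso η ≪≫ εY
  exact ⟨G'.obj (one _), Functor.Fiber.fiberInclusion.mapIso η₁, η₁.hom.2⟩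

include h𝒳 h𝒴 ht in
/-- Bijectivity on automorphisms at a neutralisation gives an equivalence. -/
theorem isEquivOver_of_bijective (hφ : ∀ (x : 𝒳.obj) (_ : x ⟶ s), Function.Bijective (Gerb.autMap φ x)) :
    FibCat.IsEquivOver φ := by
  haveI := full_of_bijective h𝒳 h𝒴 φ s ht hφ
  haveI := faithful_of_injective h𝒳 h𝒴 φ s ht fun x c => (hφ x c).1
  exact isEquivOver_of_essSurjOver φ (essSurjOver h𝒳 h𝒴 φ s ht)

end Groth.Agent.GerbeNeutral
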