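import Groth.Agent.FibBasics.Yoneda
import Groth.Agent.FibBasics.Descent
import Groth.Prelude.Def_AlgSt
import Groth.Prelude.Def_StGerb

/-!
Gluing morphisms in prestacks.
-/

set_option autoImplicit false
set_option backward.isDefEq.respectTransparency false
set_option backward.isDefEq.respectTransparency.types false

universe v₂ u₂ v u

open CategoryTheory CategoryTheory.Functor Groth.Agent.FibBasics

namespace Groth.Agent.GerbeNeutral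

variable {C : Type u} [Category.{v} C] {J : GrothendieckTopology C} {𝒳 : BasedCategory.{v₂, u₂} C}

/-- Composing with a morphism over an identity keeps the base. -/
theorem lift_comp_vert {R S : C} (f : R ⟶ S) {a b c : 𝒳.obj} {t : a ⟶ b} {u : b ⟶ c}
    (ht : 𝒳.p.IsHomLift f t) (hu : 𝒳.p.IsHomLift (𝟙 S) u) : 𝒳.p.IsHomLift f (t ≫ u) := by
  have h := @IsHomLift.comp _ _ _ _ 𝒳.p _ _ _ _ _ _ f (𝟙 S) t u ht hu
  rwa [Category.comp_id] at h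

/-- Composing a morphism over an identity keeps the base. -/
theorem lift_vert_comp {R S : C} (f : R ⟶ S) {a b c : 𝒳.obj} {u : a ⟶ b} {t : b ⟶ c}
    (hu : 𝒳.p.IsHomLift (𝟙 R) u) (ht : 𝒳.p.IsHomLift f t) : 𝒳.p.IsHomLift f (u ≫ t) := by
  have h := @IsHomLift.comp _ _ _ _ 𝒳.p _ _ _ _ _ _ (𝟙 R) f u t hu ht
  rwa [Category.id_comp] at h

section

variable (hP : Stk.IsPrestack J 𝒳) {U : C} (R : Sieve U) (hR : R ∈ J U)

include hP hR in
/-- Morphisms of a fibre are determined locally. -/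
theorem fiber_hom_ext_loc {a b : 𝒳.p.Fiber U} (φ φ' : a ⟶ b)
    (h : ∀ {V : C} (f : V ⟶ U), R f → ∀ (a' : 𝒳.obj) (m : a' ⟶ a.1), 𝒳.p.IsHomLift f m → m ≫ φ.1 = m ≫ φ'.1) :
    φ = φ' := by
  haveI := isFibered_of_isFibGrpd _ hP.1
  obtain ⟨Ga, -, ⟨εa⟩⟩ := exists_evalAtId_iso a
  obtain ⟨Gb, -, ⟨εb⟩⟩ := exists_evalAtId_iso b
  obtain ⟨β, hβ⟩ := evalAtId_surjective (cartOne_of_isFibGrpd Gb hP.1) (G := Ga) (εa.hom ≫ φ ≫ εb.inv)
  obtain ⟨β', hβ'⟩ := evalAtId_surjective (cartOne_of_isFibGrpd Gb hP.1) (G := Ga) (εa.hom ≫ φ' ≫ εb.inv)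
  have he : (Stk.resSieve R 𝒳).map β = (Stk.resSieve R 𝒳).map β' := by
    apply BasedNatTrans.ext
    apply NatTrans.ext
    funext g
    let gg : (FibCat.overCat U).obj := g.obj
    refine fib_ext hP.1 (𝟙 _) (hm gg) (Gb.map (toOne gg)) (based_lift_one Gb gg) _ _
      (β.isHomLift' gg) (β'.isHomLift' gg) ?_
    refine (β.toNatTrans.naturality (toOne gg)).symm.trans (Eq.trans ?_ (β'.toNatTrans.naturality (toOne gg)))
    show Ga.map (toOne gg) ≫ ((FibCat.evalAtId 𝒳 U).map β).1 = Ga.map (toOne gg) ≫ ((FibCat.evalAtId 𝒳 U).map β').1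
    rw [hβ, hβ']
    show Ga.map (toOne gg) ≫ εa.hom.1 ≫ φ.1 ≫ εb.inv.1 = Ga.map (toOne gg) ≫ εa.hom.1 ≫ φ'.1 ≫ εb.inv.1
    have := h (hm gg) g.property _ (Ga.map (toOne gg) ≫ εa.hom.1) (lift_comp_vert _ (based_lift_one Ga gg) εa.hom.2)
    rw [Category.assoc, Category.assoc] at this
    simp only [← Category.assoc] at this ⊢
    rw [this]
  haveI := (hP.2 R hR).2
  have e := (Stk.resSieve R 𝒳).map_injective he
  rw [← cancel_epi εa.hom, ← cancel_mono εb.inv, Category.assoc, Category.assoc, ← hβ, ← hβ', e]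

include hP hR in
/-- Morphisms of a fibre glue. -/
theorem exists_glue (a b : 𝒳.p.Fiber U)
    (μ : ∀ {V : C} (f : V ⟶ U), R f → ∀ (a' : 𝒳.obj) (m : a' ⟶ a.1), 𝒳.p.IsHomLift f m → (a' ⟶ b.1))
    (hμ : ∀ {V : C} (f : V ⟶ U) (hf : R f) (a' : 𝒳.obj) (m : a' ⟶ a.1) (hm : 𝒳.p.IsHomLift f m),
      𝒳.p.IsHomLift f (μ f hf a' m hm))
    (hnat : ∀ {V V' : C} (g : V' ⟶ V) (f : V ⟶ U) (f' : V' ⟶ U) (hf : R f) (hf' : R f') (a' a'' : 𝒳.obj)
      (n : a'' ⟶ a') (_ : 𝒳.p.IsHomLift g n) (m : a' ⟶ a.1) (hm : 𝒳.p.IsHomLift f m)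
      (hm' : 𝒳.p.IsHomLift f' (n ≫ m)), μ f' hf' a'' (n ≫ m) hm' = n ≫ μ f hf a' m hm) :
    ∃ φ : a ⟶ b, ∀ {V : C} (f : V ⟶ U) (hf : R f) (a' : 𝒳.obj) (m : a' ⟶ a.1) (hm : 𝒳.p.IsHomLift f m),
      m ≫ φ.1 = μ f hf a' m hm := by
  haveI := isFibered_of_isFibGrpd _ hP.1
  obtain ⟨Ga, -, ⟨εa⟩⟩ := exists_evalAtId_iso a
  obtain ⟨Gb, -, ⟨εb⟩⟩ := exists_evalAtId_iso b
  have hl : ∀ g : (FibCat.overCat U).obj, 𝒳.p.IsHomLift (hm g) (Ga.map (toOne g) ≫ εa.hom.1) := fun g =>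
    lift_comp_vert _ (based_lift_one Ga g) εa.hom.2
  have hex : ∀ g : (Stk.sieveCat R).obj, ∃ u : Ga.obj g.obj ⟶ Gb.obj g.obj,
      𝒳.p.IsHomLift (𝟙 ((FibCat.overCat U).p.obj g.obj)) u ∧
        u ≫ Gb.map (toOne g.obj) = μ (hm g.obj) g.property _ _ (hl g.obj) ≫ εb.inv.1 := fun g =>
    fib_factor_id hP.1 (hm g.obj) (Gb.map (toOne g.obj)) (based_lift_one Gb g.obj) _
      (lift_comp_vert _ (hμ _ _ _ _ _) εb.inv.2)
  choose u hu huc using hex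
  have hcomp : ∀ {g g' : (FibCat.overCat U).obj} (k : g ⟶ g'),
      Ga.map k ≫ Ga.map (toOne g') ≫ εa.hom.1 = Ga.map (toOne g) ≫ εa.hom.1 := fun {g g'} k => by
    rw [← Category.assoc, ← Ga.toFunctor.map_comp, toOne_unique (k ≫ toOne g')]
  let α : (Stk.resSieve R 𝒳).obj Ga ⟶ (Stk.resSieve R 𝒳).obj Gb :=
    { app := fun g => u g
      naturality := fun g g' k => by
        refine fib_ext hP.1 ((FibCat.overCat U).p.map k.hom) (hm g'.obj) (Gb.map (toOne g'.obj)) (based_lift_one Gb g'.obj) _ _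
          (lift_comp_vert _ (based_lift Ga k.hom) (hu g')) (lift_vert_comp _ (hu g) (based_lift Gb k.hom)) ?_
        show (Ga.map k.hom ≫ u g') ≫ _ = (u g ≫ Gb.map k.hom) ≫ _
        rw [Category.assoc, Category.assoc, huc, ← Gb.toFunctor.map_comp, toOne_unique (k.hom ≫ toOne g'.obj), huc,
          ← Category.assoc]
        congr 1
        have h' : 𝒳.p.IsHomLift (hm g.obj) (Ga.map k.hom ≫ Ga.map (toOne g'.obj) ≫ εa.hom.1) := by
          rw [hcomp]; exact hl _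
        have := hnat ((FibCat.overCat U).p.map k.hom) (hm g'.obj) (hm g.obj) g'.property g.property _ _
          (Ga.map k.hom) (based_lift Ga k.hom) _ (hl g'.obj) h'
        simp only [hcomp k.hom] at this
        exact this.symm
      isHomLift' := hu }
  haveI := (hP.2 R hR).1
  obtain ⟨β, hβ⟩ := (Stk.resSieve R 𝒳).map_surjective α
  refine ⟨εa.inv ≫ (FibCat.evalAtId 𝒳 U).map β ≫ εb.hom, fun {V} f hf a' m hm' => ?_⟩
  let g : (Stk.sieveCat R).obj := ⟨Over.mk f, hf⟩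
  obtain ⟨v, hv, hvm⟩ := fib_factor_id hP.1 f (Ga.map (toOne g.obj) ≫ εa.hom.1) (hl g.obj) m hm'
  have hβg : β.toNatTrans.app g.obj = u g := congrArg (fun t => t.toNatTrans.app g) hβ
  have hnat' : Ga.map (toOne g.obj) ≫ ((FibCat.evalAtId 𝒳 U).map β).1 = u g ≫ Gb.map (toOne g.obj) :=
    (β.toNatTrans.naturality (toOne g.obj)).trans (congrArg (· ≫ Gb.map (toOne g.obj)) hβg)
  have ha : εa.hom.1 ≫ εa.inv.1 = 𝟙 _ := congrArg Subtype.val εa.hom_inv_id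
  have hb : εb.inv.1 ≫ εb.hom.1 = 𝟙 _ := congrArg Subtype.val εb.inv_hom_id
  subst hvm
  show (v ≫ Ga.map (toOne g.obj) ≫ εa.hom.1) ≫ εa.inv.1 ≫ ((FibCat.evalAtId 𝒳 U).map β).1 ≫ εb.hom.1 = _
  simp only [Category.assoc, reassoc_of% ha, reassoc_of% hnat', reassoc_of% (huc g), hb, Category.comp_id]
  exact (hnat (𝟙 V) f f hf hf _ _ v hv _ (hl g.obj) hm').symm

include hP hR in
/-- Morphisms over a given base morphism are determined locally. -/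
theorem hom_ext_loc {a b : 𝒳.obj} (ha : 𝒳.p.obj a = U) {W : C} (g : U ⟶ W) (φ φ' : a ⟶ b)
    (hφ : 𝒳.p.IsHomLift g φ) (hφ' : 𝒳.p.IsHomLift g φ')
    (h : ∀ {V : C} (f : V ⟶ U), R f → ∀ (a' : 𝒳.obj) (m : a' ⟶ a), 𝒳.p.IsHomLift f m → m ≫ φ = m ≫ φ') :
    φ = φ' := by
  haveI := isFibered_of_isFibGrpd _ hP.1
  obtain ⟨b', c, hc⟩ := exists_stronglyCartesian 𝒳.p (IsHomLift.codomain_eq 𝒳.p g φ) g
  obtain ⟨u, hu, huc⟩ := fib_factor_id hP.1 g c hc.toIsHomLift φ hφ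
  obtain ⟨u', hu', huc'⟩ := fib_factor_id hP.1 g c hc.toIsHomLift φ' hφ'
  let A : 𝒳.p.Fiber U := ⟨a, ha⟩
  let B : 𝒳.p.Fiber U := ⟨b', @IsHomLift.domain_eq _ _ _ _ 𝒳.p _ _ _ _ g c hc.toIsHomLift⟩
  have e : (⟨u, hu⟩ : A ⟶ B) = ⟨u', hu'⟩ := fiber_hom_ext_loc hP R hR _ _ fun f hf a' m hm => by
    refine fib_ext hP.1 f g c hc.toIsHomLift _ _ (lift_comp_vert f hm hu) (lift_comp_vert f hm hu') ?_
    show (m ≫ u) ≫ c = (m ≫ u') ≫ c
    rw [Category.assoc, Category.assoc, huc, huc']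
    exact h f hf a' m hm
  rw [← huc, ← huc', show u = u' from congrArg Subtype.val e]

end

/-- In a gerbe two objects of a fibre are locally isomorphic. -/
theorem exists_locIso (hG : Gerb.LocSurjHom J (FibCat.toSelf 𝒳)) {U : C} (a b : 𝒳.p.Fiber U) :
    ∃ R ∈ J U, ∀ {V : C} (f : V ⟶ U), R f → ∃ (x₀ : 𝒳.obj) (φ : x₀ ⟶ a.1) (ψ : x₀ ⟶ b.1),
      𝒳.p.IsHomLift f φ ∧ 𝒳.p.IsHomLift f ψ := by
  obtain ⟨a, rfl⟩ := a
  obtain ⟨b, hb⟩ := b
  let e : (FibCat.toSelf 𝒳).obj a ⟶ (FibCat.toSelf 𝒳).obj b := eqToHom hb.symm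
  obtain ⟨R, hR, h⟩ := hG a b e (IsHomLift.of_fac _ _ _ rfl hb (by simp only [e, eqToHom_map, eqToHom_trans, eqToHom_refl, Category.id_comp]; rfl))
  exact ⟨R, hR, fun {V} f hf => let ⟨x₀, φ, ψ, h₁, h₂, _⟩ := h f hf; ⟨x₀, φ, ψ, h₁, h₂⟩⟩

end Groth.Agent.GerbeNeutral
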